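import Cfsg.Agent.CosetEnum.Y322A.Data

set_option autoImplicit false
set_option maxRecDepth 100000
set_option Elab.async false

/-! Deductions for the coset table on 56 cosets (generated certificate). -/

namespace CfsgLib.CosetEnum.Y322A

def B0 : ℕ := 0x10303038302840e0830a0628181240c09b023048c18906046810a1c08646091302089c1840b06260e0c1c1038510618608

theorem tree0 : foldR (tree 7 tb id parN parX) 6 0 0 = B0 := by decide +kernel

theorem goodT0 : enum.Good B0 := enum.good_tree_block 6 0 _ _ enum.good_zero tree0

theorem good0 : enum.Good B0 := goodT0

def D1 : ℕ := 0xff00000000ff00000000ff000000350e02000034090100003303010000361501000031150200002f150200002d150200002f130200003511010000340c0100003609020000340802000031060300002e040200002e030100002b030100003302010000281702000025170200002317020000211702000036140100002b14020000291402000036130100002813020000251302000031110200002f110200002d1102000035100100002410020000350f0100002f0f020000210f020000340b010000250b010000340a01000025090100003305010000220501000020050100001e0501000032040300003603020000220301000035020200002e020100002b020100001e020100003301020000311a0200001f1a0200001c1a0200001a1a020000191a020000171a020000151a0200002d180200002d170300001f150200001a110200002b100200001c10010000280f0200001a0e030000310c0200002f0c0200002d0c020000150c020000260b020000240b020000190b010000170b0100002f0a020000230a020000210a0200002308030000150803000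02e060200002b0602000016050100001405010000110501000028040300002c01030000290103000022010200001d010300001b010300000e010300002b1a010000291a010000261a010000241a010000281801000025180100002318010000211801000012170300000f170300000c170300000a1703000015150200000f1301000019110200000c0f010000250c0100001f0c0200000a0a01000019080200001f060300001c060300001a06030000160602000014060200001106020000290502000026050200002405020000220402000020040200001e040200000904020000060403000011030100001c02020000160201000016010200001401020000041a0200001f180200001c180200001a18020000191802000017180200001518020000131801000010180100000d180100000b180100000718020000041702000010150100000f150100000d130200000b130200000d110100000c110100001c0f010000130f0200000b0f0200000d0e0200000c0e0200000b0c0100000a0c010000190a010000170a010000130a020000100a02000010090200000f090200000b090100000a090100000b080200000a0802000007060300000506030000030602000005050200000305010000130403000010040300000d04030000030402000010030200000f03020000090301000008030100000d020200000c020200000902010000080201000009010200000801020000071502000005150200000415020000051402000004130200000711020000051102000004110200000510020000040f020000070c020000050c020000040c020000020c010000050b020000020b010000040a020000020a0100000303010000030201000002010300002414020000211302000001110100000110010000010f010000020901000001080300001e0301000001020200001a15020000171502000000150100000f1401000000140100000013010000151102000026100200000c10010000230f020000000e0300000a0b010000170901000000090200000805010000140301000000030200002002010000110201000000210000000020000000001f000000001e000000001d000000001c0000002d1a020000051a0200002f18020000041802000010130200001c110200000d0f020000190c020000170c020000290b020000250a0200000b0a0200002b0502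

def B1 : ℕ := 0xffffffffffffffffffffffffffffffffffffffffffffffffffffffffffffffffffffffffffffffffffffffffffffffffff

theorem step1 : runDed 7 tb id wd 28 34 8 D1 B0 = B1 := by decide +kernel

theorem good1 : enum.Good B1 :=
  enum.good_ded 8 D1 28 34 _ _ rfl rfl good0 step1

end CfsgLib.CosetEnum.Y322A
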